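import Groth.Agent.S10375
import Groth.Agent.S9938
import Groth.Agent.S5075
import Groth.Agent.EtaleSite.TopInv
import Groth.Agent.SGA1Desc.SubtrEff
import Groth.Agent.SGA1Desc.QuasiFiniteEff
import Groth.Agent.HTopLib.Val
import Groth.Agent.AlgSpB.Points
import Groth.Agent.AlgSp.Space

/-!
# Descent data on etale charts of spaces with surjective closed diagonal
-/

universe u

open CategoryTheory CategoryTheory.Limits AlgebraicGeometry Opposite

set_option autoImplicit false
set_option backward.isDefEq.respectTransparency false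
set_option backward.isDefEq.respectTransparency.types false

namespace Groth.Agent.AlgSpD.UnivHomeo

open _root_.AlgSp

variable {S : Scheme.{u}}

/-- Two points over the base of a universally injective separated space agree on a surjective closed subscheme. -/
theorem exists_eq_thick {X : Space S} {T : Over S} (f : X.obj ⟶ (yon S).obj T) (hsep : IsSeparatedMor f)
    (hinj : IsUnivInjectiveMor f) {A : Over S} (a b : (yon S).obj A ⟶ X.obj) (h : a ≫ f = b ≫ f) :
    ∃ (W : Over S) (w : W ⟶ A), IsClosedImmersion w.left ∧ Surjective w.left ∧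
      (yon S).map w ≫ a = (yon S).map w ≫ b := by
  obtain ⟨W, ρ, c, sq⟩ := hsep.1 (pullback.lift a b h)
  refine ⟨W, ρ, hsep.2 _ _ _ sq, ⟨fun t => ?_⟩, ?_⟩
  · let str := A.left.fromSpecResidueField t ≫ A.hom
    let P : Over S := Over.mk str
    let pt : P ⟶ A := Over.homMk (A.left.fromSpecResidueField t) rfl
    have e : (yon S).map pt ≫ a = (yon S).map pt ≫ b :=
      ((Groth.Agent.S9938.result (Y := ⟨_, IsAlgSpace.yon_obj T⟩) (ObjectProperty.homMk f)).1.2 hinj)
        (A.left.residueField t) str (by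
          change ((yon S).map pt ≫ a) ≫ f = ((yon S).map pt ≫ b) ≫ f
          rw [Category.assoc, Category.assoc, h])
    obtain ⟨l, hl⟩ := (yon S).map_surjective (sq.lift ((yon S).map pt ≫ a) ((yon S).map pt) (by
      apply pullback.hom_ext
      · simp only [Category.assoc, pullback.diagonal_fst, Category.comp_id, pullback.lift_fst]
      · simp only [Category.assoc, pullback.diagonal_snd, Category.comp_id, pullback.lift_snd, e]))
    have hl' : l ≫ ρ = pt := (yon S).map_injective (by rw [Functor.map_comp, hl, sq.lift_snd])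
    refine ⟨l.left (IsLocalRing.closedPoint (A.left.residueField t)), ?_⟩
    rw [← Scheme.Hom.comp_apply, ← Over.comp_left, hl']
    exact A.left.fromSpecResidueField_apply t _
  · have h1 := sq.w =≫ pullback.fst f f
    have h2 := sq.w =≫ pullback.snd f f
    simp only [Category.assoc, pullback.diagonal_fst, pullback.diagonal_snd, Category.comp_id,
      pullback.lift_fst, pullback.lift_snd] at h1 h2
    exact h1.symm.trans h2

variable {Y U U' : Over S}

/-- Two points of a base-changed chart are related when their images in the chart agree on a surjective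
closed subscheme. -/
def Rel (pU : U' ⟶ U) {A : Scheme.{u}} (v₀ v₁ : A ⟶ U'.left) : Prop :=
  ∃ (W : Scheme.{u}) (w : W ⟶ A), IsClosedImmersion w ∧ Surjective w ∧ w ≫ v₀ ≫ pU.left = w ≫ v₁ ≫ pU.left

theorem rel_refl (pU : U' ⟶ U) {A : Scheme.{u}} (v : A ⟶ U'.left) : Rel pU v v :=
  ⟨A, 𝟙 A, inferInstance, inferInstance, rfl⟩

theorem rel_symm (pU : U' ⟶ U) {A : Scheme.{u}} {v₀ v₁ : A ⟶ U'.left} (h : Rel pU v₀ v₁) : Rel pU v₁ v₀ :=
  let ⟨W, w, h1, h2, e⟩ := h; ⟨W, w, h1, h2, e.symm⟩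

theorem rel_comp (pU : U' ⟶ U) {A A' : Scheme.{u}} (g : A' ⟶ A) {v₀ v₁ : A ⟶ U'.left} (h : Rel pU v₀ v₁) :
    Rel pU (g ≫ v₀) (g ≫ v₁) := by
  obtain ⟨W, w, h1, h2, e⟩ := h
  refine ⟨pullback g w, pullback.fst g w, MorphismProperty.pullback_fst _ _ h1,
    MorphismProperty.pullback_fst _ _ h2, ?_⟩
  simp only [Category.assoc, pullback.condition_assoc, e]

theorem rel_trans (pU : U' ⟶ U) {A : Scheme.{u}} {v₀ v₁ v₂ : A ⟶ U'.left} (h : Rel pU v₀ v₁) (h' : Rel pU v₁ v₂) :
    Rel pU v₀ v₂ := by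
  obtain ⟨W, w, h1, h2, e⟩ := h
  obtain ⟨W', w', h1', h2', e'⟩ := h'
  have : IsClosedImmersion (pullback.fst w w') := MorphismProperty.pullback_fst _ _ h1'
  have : Surjective (pullback.fst w w') := MorphismProperty.pullback_fst _ _ h2'
  refine ⟨pullback w w', pullback.fst w w' ≫ w, inferInstance, inferInstance, ?_⟩
  rw [Category.assoc, e, ← Category.assoc, pullback.condition, Category.assoc, e', ← Category.assoc,
    ← pullback.condition, Category.assoc]

section Datum

variable {X : Space S} {T : Over S} (f : X.obj ⟶ (yon S).obj T) (hsep : IsSeparatedMor f)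
  (hinj : IsUnivInjectiveMor f) {p : (yon S).obj U ⟶ X.obj} {g : (yon S).obj Y ⟶ X.obj}
  (hq : Y ⟶ T) (hhq : (yon S).map hq = g ≫ f) {pU : U' ⟶ U} (pY : U' ⟶ Y) [Etale pY.left]
  (sq : IsPullback ((yon S).map pU) ((yon S).map pY) p g)

include sq in
/-- Related points over the same point are equal. -/
theorem rel_unique {A : Scheme.{u}} {v₀ v₁ v₁' : A ⟶ U'.left} (h : Rel pU v₀ v₁) (h' : Rel pU v₀ v₁')
    (hY : v₁ ≫ pY.left = v₁' ≫ pY.left) : v₁ = v₁' := by
  obtain ⟨W, w, -, hw, e⟩ := rel_trans pU (rel_symm pU h) h'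
  let W₁ : Over S := Over.mk ((w ≫ v₁) ≫ U'.hom)
  let a : W₁ ⟶ U' := Over.homMk (w ≫ v₁) rfl
  let b : W₁ ⟶ U' := Over.homMk (w ≫ v₁') (by
    change (w ≫ v₁') ≫ U'.hom = (w ≫ v₁) ≫ U'.hom
    rw [← Over.w pY, Category.assoc, Category.assoc, reassoc_of% hY])
  have hab : a = b := (yon S).map_injective (sq.hom_ext
    (by rw [← Functor.map_comp, ← Functor.map_comp]; congr 1; exact Over.OverMorphism.ext (by simpa [a, b] using e))
    (by rw [← Functor.map_comp, ← Functor.map_comp]; congr 1; exact Over.OverMorphism.ext (by simp [a, b, hY])))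
  exact EtaleSite.hom_ext_of_surjective pY.left v₁ v₁' hY w (congrArg CommaMorphism.left hab)

include hsep hinj hhq sq in
/-- Related points exist over every point with the same image in the base. -/
theorem exists_rel {A : Scheme.{u}} (v₀ : A ⟶ U'.left) (x₁ : A ⟶ Y.left)
    (h : (v₀ ≫ pY.left) ≫ hq.left = x₁ ≫ hq.left) : ∃ v₁, v₁ ≫ pY.left = x₁ ∧ Rel pU v₀ v₁ := by
  let A' : Over S := Over.mk (v₀ ≫ U'.hom)
  let v : A' ⟶ U' := Over.homMk v₀ rfl
  let x : A' ⟶ Y := Over.homMk x₁ (by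
    change x₁ ≫ Y.hom = v₀ ≫ U'.hom
    rw [← Over.w hq, ← Category.assoc, ← h, Category.assoc, Category.assoc, Over.w hq, Over.w pY])
  have hx : (v ≫ pY) ≫ hq = x ≫ hq := Over.OverMorphism.ext h
  obtain ⟨W, w, hw1, hw2, e⟩ := exists_eq_thick f hsep hinj ((yon S).map (v ≫ pY) ≫ g) ((yon S).map x ≫ g) (by
    rw [Category.assoc, Category.assoc, ← hhq, ← Functor.map_comp, ← Functor.map_comp, hx])
  obtain ⟨m, hm⟩ := (yon S).map_surjective (sq.lift ((yon S).map (w ≫ v ≫ pU)) ((yon S).map (w ≫ x)) (by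
    simp only [Functor.map_comp, Category.assoc] at e ⊢
    rw [sq.w, e]))
  have m1 : m ≫ pU = w ≫ v ≫ pU := (yon S).map_injective (by rw [Functor.map_comp, hm, sq.lift_fst])
  have m2 : m ≫ pY = w ≫ x := (yon S).map_injective (by rw [Functor.map_comp, hm, sq.lift_snd])
  obtain ⟨v₁, ⟨h1, h2⟩, -⟩ := Groth.Agent.S5075.result pY.left x₁ w.left m.left (congrArg CommaMorphism.left m2)
  refine ⟨v₁, h1, W.left, w.left, hw1, hw2, ?_⟩
  rw [← Category.assoc w.left v₁, h2]
  exact (congrArg CommaMorphism.left m1).symm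

include hsep hinj hhq sq in
theorem exists_rel_lift {A : Scheme.{u}} (x₀ x₁ : A ⟶ Y.left) (h : x₀ ≫ hq.left = x₁ ≫ hq.left)
    (v : Desc.Lifts (Over.mk pY.left) x₀) :
    ∃ v' : Desc.Lifts (Over.mk pY.left) x₁, Rel pU (U' := U') v.1 v'.1 := by
  obtain ⟨v₁, h1, h2⟩ := exists_rel f hsep hinj hq hhq pY sq v.1 x₁ (by rw [show v.1 ≫ pY.left = x₀ from v.2, h])
  exact ⟨⟨v₁, h1⟩, h2⟩

include hsep hinj hhq sq in
/-- The descent datum on the base change of an etale chart along a scheme over the space. -/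
theorem exists_datum :
    ∃ (φ : ∀ ⦃A : Scheme.{u}⦄ (x₀ x₁ : A ⟶ Y.left), x₀ ≫ hq.left = x₁ ≫ hq.left →
        (Desc.Lifts (Over.mk pY.left) x₀ ≃ Desc.Lifts (Over.mk pY.left) x₁)),
      ∀ ⦃A : Scheme.{u}⦄ (x₀ x₁ : A ⟶ Y.left) (h : x₀ ≫ hq.left = x₁ ≫ hq.left)
        (v : Desc.Lifts (Over.mk pY.left) x₀) (w : Desc.Lifts (Over.mk pY.left) x₁),
        φ x₀ x₁ h v = w ↔ Rel pU (U' := U') v.1 w.1 := by
  choose F hF using @exists_rel_lift S Y U U' X T f hsep hinj p g hq hhq pU pY _ sq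
  have key : ∀ {A : Scheme.{u}} (x₀ x₁ : A ⟶ Y.left) (h : x₀ ≫ hq.left = x₁ ≫ hq.left)
      (v : Desc.Lifts (Over.mk pY.left) x₀) (w : Desc.Lifts (Over.mk pY.left) x₁),
      Rel pU (U' := U') v.1 w.1 → F x₀ x₁ h v = w := fun x₀ x₁ h v w hr =>
    Subtype.ext (rel_unique pY sq (hF x₀ x₁ h v) hr ((F x₀ x₁ h v).2.trans w.2.symm))
  refine ⟨fun A x₀ x₁ h =>
    { toFun := F x₀ x₁ h
      invFun := F x₁ x₀ h.symm
      left_inv := fun v => key _ _ _ _ _ (rel_symm pU (hF x₀ x₁ h v))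
      right_inv := fun v => key _ _ _ _ _ (rel_symm pU (hF x₁ x₀ h.symm v)) },
    fun A x₀ x₁ h v w => ⟨fun e => ?_, key x₀ x₁ h v w⟩⟩
  subst e
  exact hF x₀ x₁ h v

end Datum

end Groth.Agent.AlgSpD.UnivHomeo
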