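import Groth.Agent.AlgSpD.UnivHomeo.Datum
import Groth.Agent.AlgSpD.IntSurj.Main
import Groth.Agent.AlgSpCov.FpqcTop
import Groth.Agent.S9943
import Groth.Agent.S9925
import Groth.Agent.AlgSp.LimAffineMor
import Groth.Agent.S10180
import Groth.Agent.AlgSp.AffineMor
import Groth.Agent.AlgSp.UnivClosed
import Groth.Agent.AlgSp.PointsMor
import Groth.Agent.AlgSp.LimAffine
import Groth.Agent.AlgSp.NormQf
import Groth.Agent.AlgSpD.ThickPush.Basic

/-!
# Separated universal homeomorphisms to affine schemes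
-/

universe u

open CategoryTheory CategoryTheory.Limits AlgebraicGeometry Opposite

set_option autoImplicit false
set_option backward.isDefEq.respectTransparency false
set_option backward.isDefEq.respectTransparency.types false

namespace Groth.Agent.AlgSpD.UnivHomeo

open _root_.AlgSp

variable {S : Scheme.{u}}

/-- A chart is split along a universally closed cover when its descended etale scheme splits it. -/
theorem exists_section {U U' W W' : Scheme.{u}} {pU : U' ⟶ U} {aU : W ⟶ U} {h : W' ⟶ W} {fU : W' ⟶ U'}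
    [Etale aU] [IsSeparated aU] [UniversallyClosed pU] [Surjective pU] (sW : IsPullback fU h pU aU)
    (η : U' ⟶ W) (hη : η ≫ aU = pU)
    (hsat : ∀ ⦃A : Scheme.{u}⦄ (a : A ⟶ W') (b : A ⟶ U'), a ≫ h = b ≫ η → a = (a ≫ fU) ≫ sW.lift (𝟙 _) η (by rw [Category.id_comp, hη])) :
    ∃ ε : U ⟶ W, ε ≫ aU = 𝟙 U ∧ pU ≫ ε = η := by
  let s : U' ⟶ W' := sW.lift (𝟙 _) η (by rw [Category.id_comp, hη])
  have s1 : s ≫ fU = 𝟙 U' := sW.lift_fst _ _ _
  have s2 : s ≫ h = η := sW.lift_snd _ _ _
  have : Etale fU := MorphismProperty.of_isPullback sW.flip ‹Etale aU›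
  have : IsSeparated fU := MorphismProperty.of_isPullback sW.flip ‹IsSeparated aU›
  have : UniversallyClosed h := MorphismProperty.of_isPullback sW ‹UniversallyClosed pU›
  have : Surjective h := MorphismProperty.of_isPullback sW ‹Surjective pU›
  have hso : IsOpenImmersion s := Groth.Agent.EtaleSite.isOpenImmersion_of_section fU s s1
  have hsat' : h ⁻¹' Set.range η = Set.range s := by
    refine Set.Subset.antisymm (fun w hw => ?_) (fun _ ⟨u, hu⟩ => ⟨u, by rw [← hu, ← Scheme.Hom.comp_apply, s2]⟩)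
    obtain ⟨u, hu⟩ := hw
    obtain ⟨c, hc1, -⟩ := Scheme.Pullback.exists_preimage_pullback (f := h) (g := η) w u hu.symm
    refine ⟨(pullback.fst h η ≫ fU) c, ?_⟩
    rw [← Scheme.Hom.comp_apply, ← hsat (pullback.fst h η) (pullback.snd h η) pullback.condition]
    exact hc1
  have ho : IsOpen (Set.range η) := by
    rw [← isClosed_compl_iff, ← Set.image_preimage_eq (Set.range η)ᶜ h.surjective, Set.preimage_compl, hsat']
    exact h.isClosedMap _ s.isOpenEmbedding.isOpen_range.isClosed_compl
  let O : W.Opens := ⟨Set.range η, ho⟩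
  let η₀ : U' ⟶ O := IsOpenImmersion.lift O.ι η (by rw [Scheme.Opens.range_ι]; exact subset_rfl)
  have hη₀ : η₀ ≫ O.ι = η := IsOpenImmersion.lift_fac _ _ _
  let γ : (O : Scheme.{u}) ⟶ U := O.ι ≫ aU
  have hγ : η₀ ≫ γ = pU := by rw [← Category.assoc, hη₀, hη]
  have : Surjective γ := by
    have : Surjective (η₀ ≫ γ) := hγ ▸ ‹Surjective pU›
    exact Surjective.of_comp η₀ γ
  have hO : ∀ {A : Scheme.{u}} (a : A ⟶ O) (z : A ⟶ U'), a ≫ γ = z ≫ pU → a ≫ O.ι = z ≫ η := by
    intro A a z e
    let m := sW.lift z (a ≫ O.ι) (by rw [Category.assoc]; exact e.symm)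
    have m1 : m ≫ fU = z := sW.lift_fst _ _ _
    have m2 : m ≫ h = a ≫ O.ι := sW.lift_snd _ _ _
    have hm : Set.range m ⊆ Set.range s := by
      rintro _ ⟨t, rfl⟩
      rw [← hsat']
      show h (m t) ∈ Set.range η
      rw [← Scheme.Hom.comp_apply, m2]
      exact (a t).2
    have hk : IsOpenImmersion.lift s m hm ≫ s = m := IsOpenImmersion.lift_fac _ _ _
    have hz : IsOpenImmersion.lift s m hm = z := by
      rw [← m1]
      conv_rhs => rw [← hk]
      rw [Category.assoc, s1, Category.comp_id]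
    rw [← m2, ← hk, hz, Category.assoc, s2]
  have : IsIso γ := by
    let d := pullback.diagonal γ
    let p₁ := pullback.fst γ γ
    let p₂ := pullback.snd γ γ
    let r := pullback.fst (p₁ ≫ γ) pU
    let z₀ := pullback.snd (p₁ ≫ γ) pU
    have : Surjective r := MorphismProperty.pullback_fst _ _ ‹Surjective pU›
    have e1 : (r ≫ p₁) ≫ O.ι = z₀ ≫ η := hO (r ≫ p₁) z₀ ((Category.assoc _ _ _).trans pullback.condition)
    have e2 : (r ≫ p₂) ≫ O.ι = z₀ ≫ η := hO (r ≫ p₂) z₀ (by
      refine (Category.assoc _ _ _).trans ?_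
      rw [show p₂ ≫ γ = p₁ ≫ γ from (pullback.condition (f := γ) (g := γ)).symm]
      exact pullback.condition)
    have e12 : r ≫ p₁ = r ≫ p₂ := (cancel_mono O.ι).1 (e1.trans e2.symm)
    have hrd : (r ≫ p₁) ≫ d = r := pullback.hom_ext
      (by rw [Category.assoc, pullback.diagonal_fst, Category.comp_id])
      (by rw [Category.assoc, pullback.diagonal_snd, Category.comp_id, e12])
    have : Surjective d := by
      have : Surjective ((r ≫ p₁) ≫ d) := by rw [hrd]; infer_instance
      exact Surjective.of_comp (r ≫ p₁) d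
    have : UniversallyInjective γ := (UniversallyInjective.iff_diagonal γ).2 this
    exact EtaleSite.isIso_of_etale_of_universallyInjective γ
  refine ⟨inv γ ≫ O.ι, (Category.assoc _ _ _).trans (IsIso.inv_hom_id γ), ?_⟩
  rw [← hγ, Category.assoc, IsIso.hom_inv_id_assoc, hη₀]

/-- A map into a fibre product is an isomorphism when it is so after a cover. -/
theorem isPullback_of_cover {X : Space S} {T Y U U' E : Over S} {f : X.obj ⟶ (yon S).obj T}
    {p : (yon S).obj U ⟶ X.obj} (hp : RepWith @Etale p) {g : (yon S).obj Y ⟶ X.obj} (hg : RepWith @Surjective g)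
    {he : E ⟶ T} [Etale he.left] {hq : Y ⟶ T} (hhq : (yon S).map hq = g ≫ f) {pU : U' ⟶ U} {pY : U' ⟶ Y}
    (sq : IsPullback ((yon S).map pU) ((yon S).map pY) p g) (ψ : U ⟶ E)
    (hψ : p ≫ f = (yon S).map ψ ≫ (yon S).map he) (sE : IsPullback (pU ≫ ψ) pY he hq) :
    IsPullback p ((yon S).map ψ) f ((yon S).map he) := by
  let P := pullback f ((yon S).map he)
  have sP : IsPullback (pullback.fst f ((yon S).map he)) (pullback.snd f ((yon S).map he)) f ((yon S).map he) :=
    IsPullback.of_hasPullback _ _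
  let σ : (yon S).obj U ⟶ P := pullback.lift p ((yon S).map ψ) hψ
  have cover : ∀ (A : Over S) (a : (yon S).obj A ⟶ X.obj), ∃ (A' : Over S) (z : A' ⟶ Y) (r : A' ⟶ A),
      Surjective r.left ∧ (yon S).map z ≫ g = (yon S).map r ≫ a := by
    intro A a
    obtain ⟨A', z, r, s⟩ := Groth.Agent.AlgSpB.exists_pullback_yon hg.1 a
    exact ⟨A', z, r, hg.2 _ _ _ s, s.w⟩
  have : Mono σ := by
    refine Groth.Agent.AlgSp.mono_of_yon _ fun A x y hxy => ?_
    obtain ⟨x, rfl⟩ := (yon S).map_surjective x
    obtain ⟨y, rfl⟩ := (yon S).map_surjective y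
    have h1 := hxy =≫ pullback.fst _ _
    have h2 := hxy =≫ pullback.snd _ _
    simp only [σ, Category.assoc, pullback.lift_fst, pullback.lift_snd, ← Functor.map_comp] at h1 h2
    have h2' : x ≫ ψ = y ≫ ψ := (yon S).map_injective h2
    obtain ⟨A', z, r, hr, ez⟩ := cover A ((yon S).map x ≫ p)
    obtain ⟨u₁, hu₁⟩ := (yon S).map_surjective (sq.lift ((yon S).map (r ≫ x)) ((yon S).map z)
      (by rw [ez, Functor.map_comp, Category.assoc]))
    obtain ⟨u₂, hu₂⟩ := (yon S).map_surjective (sq.lift ((yon S).map (r ≫ y)) ((yon S).map z)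
      (by rw [ez, h1, Functor.map_comp, Category.assoc]))
    have a1 : u₁ ≫ pU = r ≫ x := (yon S).map_injective (by rw [Functor.map_comp, hu₁, sq.lift_fst])
    have a2 : u₂ ≫ pU = r ≫ y := (yon S).map_injective (by rw [Functor.map_comp, hu₂, sq.lift_fst])
    have b1 : u₁ ≫ pY = z := (yon S).map_injective (by rw [Functor.map_comp, hu₁, sq.lift_snd])
    have b2 : u₂ ≫ pY = z := (yon S).map_injective (by rw [Functor.map_comp, hu₂, sq.lift_snd])
    have e : u₁ = u₂ := sE.hom_ext
      (by rw [← Category.assoc, a1, Category.assoc, h2', ← Category.assoc, ← a2, Category.assoc]) (by rw [b1, b2])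
    congr 1
    exact ThickPush.hom_ext_thick hp r h1 (by rw [← a1, ← a2, e])
  have hσ : RepWith @Etale σ := by
    obtain ⟨W, aU, aE, sW⟩ : ∃ (W : Over S) (aU : W ⟶ U) (aE : W ⟶ E), IsPullback aU aE (ψ ≫ he) he :=
      ⟨_, _, _, IsPullback.of_hasPullback _ _⟩
    have : Etale aU.left := MorphismProperty.of_isPullback (P := @Etale) (sW.map (Over.forget S)).flip ‹Etale he.left›
    let ε : U ⟶ W := sW.lift (𝟙 U) ψ (Category.id_comp _)
    have ε1 : ε ≫ aU = 𝟙 U := sW.lift_fst _ _ _
    have : Etale ε.left := by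
      have h : ε.left ≫ aU.left = 𝟙 U.left := congrArg CommaMorphism.left ε1
      have : Etale (ε.left ≫ aU.left) := h.symm ▸ inferInstance
      exact Etale.of_comp ε.left aU.left
    have hpsi : p ≫ f = (yon S).map (ψ ≫ he) := by rw [hψ, Functor.map_comp]
    let π : (yon S).obj W ⟶ P := pullback.lift ((yon S).map aU ≫ p) ((yon S).map aE)
      (by rw [Category.assoc, hpsi, ← Functor.map_comp, ← Functor.map_comp, sW.w])
    have sπ : IsPullback ((yon S).map aU) π p (pullback.fst f ((yon S).map he)) := by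
      refine IsPullback.of_bot ?_ (pullback.lift_fst _ _ _).symm sP
      rw [pullback.lift_snd, hpsi]
      exact sW.map (yon S)
    have hπ : RepWith @Etale π := MorphismProperty.of_isPullback sπ hp
    have e : σ = (yon S).map ε ≫ π := by
      apply pullback.hom_ext
      · rw [Category.assoc, pullback.lift_fst, pullback.lift_fst, ← Functor.map_comp_assoc, ε1,
          CategoryTheory.Functor.map_id, Category.id_comp]
      · rw [Category.assoc, pullback.lift_snd, pullback.lift_snd, ← Functor.map_comp, sW.lift_snd]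
    rw [e]
    exact MorphismProperty.comp_mem _ _ _ ((repWith_yon_map_iff _ ε).2 ‹_›) hπ
  have : IsIso σ := by
    refine Groth.Agent.AlgSpB.isIso_of_forall_yon _ fun A x => ?_
    suffices h : ∃ y : A ⟶ U, (yon S).map y ≫ σ = x by
      obtain ⟨y, hy⟩ := h
      exact ⟨_, hy, fun y' hy' => (cancel_mono σ).1 (hy'.trans hy.symm)⟩
    obtain ⟨b, hb⟩ := (yon S).map_surjective (x ≫ pullback.snd _ _)
    obtain ⟨A', z, r, hr, ez⟩ := cover A (x ≫ pullback.fst _ _)
    have hzr : z ≫ hq = (r ≫ b) ≫ he := (yon S).map_injective (by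
      simp only [Functor.map_comp, hhq, reassoc_of% ez, hb, Category.assoc, pullback.condition])
    let u : A' ⟶ U' := sE.lift (r ≫ b) z hzr.symm
    have u1 : u ≫ pU ≫ ψ = r ≫ b := sE.lift_fst _ _ _
    have u2 : u ≫ pY = z := sE.lift_snd _ _ _
    have ua : (yon S).map (u ≫ pU) ≫ σ = (yon S).map r ≫ x := by
      apply pullback.hom_ext
      · rw [Category.assoc, Category.assoc, pullback.lift_fst, Functor.map_comp, Category.assoc, sq.w,
          ← Functor.map_comp_assoc, u2, ez]
      · rw [Category.assoc, Category.assoc, pullback.lift_snd, ← hb, ← Functor.map_comp, ← Functor.map_comp,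
          Category.assoc, u1]
    obtain ⟨Wσ, v, c, sσ⟩ := Groth.Agent.AlgSpB.exists_pullback_yon hσ.1 x
    have : Etale c.left := hσ.2 _ _ _ sσ
    have : Mono ((yon S).map c) := MorphismProperty.of_isPullback (P := MorphismProperty.monomorphisms _) sσ ‹Mono σ›
    have : Mono c := (yon S).mono_of_mono_map inferInstance
    have : Mono c.left := inferInstanceAs (Mono ((Over.forget S).map c))
    obtain ⟨l, hl⟩ := (yon S).map_surjective (sσ.lift ((yon S).map (u ≫ pU)) ((yon S).map r) ua)
    have hl' : l ≫ c = r := (yon S).map_injective (by rw [Functor.map_comp, hl, sσ.lift_snd])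
    have : Surjective c.left := by
      have hl'' : l.left ≫ c.left = r.left := congrArg CommaMorphism.left hl'
      have : Surjective (l.left ≫ c.left) := hl''.symm ▸ hr
      exact Surjective.of_comp l.left c.left
    have : IsIso c.left := EtaleSite.isIso_of_etale_of_universallyInjective c.left
    have : IsIso ((Over.forget S).map c) := ‹IsIso c.left›
    have : IsIso c := isIso_of_reflects_iso c (Over.forget S)
    exact ⟨inv c ≫ v, by rw [Functor.map_comp, Category.assoc, sσ.w, ← Functor.map_comp_assoc, IsIso.inv_hom_id,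
      CategoryTheory.Functor.map_id, Category.id_comp]⟩
  exact IsPullback.of_iso_pullback ⟨hψ⟩ (asIso σ) (pullback.lift_fst _ _ _) (pullback.lift_snd _ _ _)

/-- A space separated and universally homeomorphic over an affine scheme is an affine scheme, integral
over it. -/
theorem exists_affine [QuasiSeparatedSpace S] (X : Space S) {T : Over S} [IsAffine T.left]
    (f : X.obj ⟶ (yon S).obj T) (hsep : IsSeparatedMor f) (hh : IsUnivHomeoMor f) :
    ∃ (W : Over S) (i : W ⟶ T) (e : (yon S).obj W ≅ X.obj),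
      e.hom ≫ f = (yon S).map i ∧ IsAffine W.left ∧ IsIntegralHom i.left := by
  have hinj : IsUnivInjectiveMor f := fun _ _ hZ z _ _ sq => (hh hZ z _ _ sq).bijective.1
  have hucl : IsUnivClosedMor f := fun _ _ hZ z _ _ sq => (hh hZ z _ _ sq).isClosedMap
  have : CompactSpace T.left := inferInstance
  have hqcm : IsQuasiCompactMor f :=
    Groth.Agent.S9925.result (Y := ⟨_, IsAlgSpace.yon_obj T⟩) (ObjectProperty.homMk f) hucl
  have hqc : IsQuasiCompactSp X.obj :=
    hqcm (IsAlgSpace.yon_obj T) (Groth.Agent.AlgSp.isQuasiCompactSp_yon T) (𝟙 _) (𝟙 _) f IsPullback.of_id_fst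
  have : QuasiSeparatedSpace T.left := inferInstance
  have hqs : IsQuasiSeparatedSp X.obj := Groth.Agent.AlgSp.LimAffine.isQuasiSeparatedSp_of_mor f
    (Groth.Agent.AlgSp.isQuasiSeparatedMor_of_sep hsep) (Groth.Agent.AlgSp.LimAffineMor.isQuasiSeparatedSp_yon T)
  obtain ⟨U, p, hU, hpe, hps⟩ := (Groth.Agent.S10180.result X).1 hqc
  obtain ⟨hpq, hpsep⟩ := Groth.Agent.AlgSpD.IntSurj.repWith_qc_sep X hqs p
  obtain ⟨Y, g, hg, hgs, -⟩ := Groth.Agent.S10375.result X hqc hqs p hpe hps
  obtain ⟨hq, hhq⟩ := (yon S).map_surjective (g ≫ f)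
  have hgu : RepWith @UniversallyClosed g :=
    Groth.Agent.AlgSp.repWith_mono (fun φ (hφ : IsIntegralHom φ) => (inferInstance : UniversallyClosed φ)) hg
  have : UniversallyClosed hq.left := (repWith_yon_map_iff _ hq).1
    ((Groth.Agent.AlgSp.repWith_universallyClosed_iff _ ((repWith_yon_map_iff (⊤ : MorphismProperty Scheme.{u}) hq).2 trivial).1).2
      (hhq ▸ Groth.Agent.AlgSp.isUnivClosedMor_comp X.property (IsAlgSpace.yon_obj T)
        (Groth.Agent.AlgSp.isUnivClosedMor_of_repWith hgu) hucl))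
  have : Surjective hq.left := ⟨fun t => by
    obtain ⟨x, hx⟩ := (hh (IsAlgSpace.yon_obj T) (𝟙 _) (𝟙 _) f IsPullback.of_id_fst).surjective (Points.ofScheme T t)
    obtain ⟨y, rfl⟩ := Groth.Agent.AlgSpB.surjective_ofPt hgs x
    refine ⟨y, ?_⟩
    rw [Points.map_ofPt, ← hhq] at hx
    rw [← Points.toScheme_ofPt, hx, Points.toScheme_ofScheme]⟩
  obtain ⟨U', pU, pY, sq⟩ := Groth.Agent.AlgSpB.exists_pullback_yon hpe.1 g
  have : Etale pY.left := hpe.2 _ _ _ sq
  have : QuasiCompact pY.left := hpq.2 _ _ _ sq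
  have : IsSeparated pY.left := hpsep.2 _ _ _ sq
  have : UniversallyClosed pU.left := hgu.2 _ _ _ sq.flip
  have : Surjective pU.left := hgs.2 _ _ _ sq.flip
  obtain ⟨φ, hφ⟩ := exists_datum f hsep hinj hq hhq pY sq
  let D : Desc.SchDD hq.left :=
    { obj := Over.mk pY.left
      φ := φ
      φ_natural := fun A A' a x₀ x₁ h h' v v' hv => congrArg Subtype.val
        ((hφ (a ≫ x₀) (a ≫ x₁) h' v' ⟨a ≫ (φ x₀ x₁ h v).1, by
            rw [Category.assoc]; exact congrArg (a ≫ ·) (φ x₀ x₁ h v).2⟩).2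
          (by rw [hv]; exact rel_comp pU a ((hφ x₀ x₁ h v _).1 rfl)))
      φ_self := fun A x v => (hφ x x rfl v v).2 (rel_refl pU _)
      φ_comp := fun A x₀ x₁ x₂ h₀₁ h₁₂ v => (hφ x₁ x₂ h₁₂ _ _).2
        (rel_trans pU (rel_symm pU ((hφ x₀ x₁ h₀₁ v _).1 rfl)) ((hφ x₀ x₂ _ v _).1 rfl)) }
  have : Etale D.obj.hom := ‹Etale pY.left›
  have : IsSeparated D.obj.hom := ‹IsSeparated pY.left›
  have : QuasiCompact D.obj.hom := ‹QuasiCompact pY.left›
  have hsub : Subtr.UnivSSubtrusive hq.left := Groth.Agent.HTopLib.univSSubtrusive_of_proper hq.left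
  have hgu' := Groth.Agent.SubtrLib.univSubmersive_of_univSSubtrusive hq.left hsub
  have : QuasiCompact hq.left := inferInstance
  obtain ⟨E⟩ := Groth.Agent.SGA1Desc.exists_eff_of_univSSubtrusive D hsub
  have : Etale E.str := E.etale
  have : IsSeparated E.str := E.isSeparated_str hgu'
  let π := pullback.fst (D.obj.hom ≫ hq.left) (𝟙 T.left)
  have : IsIso π := inferInstanceAs (IsIso (pullback.fst (D.obj.hom ≫ hq.left) (𝟙 T.left)))
  let e : U'.left ⟶ E.base := inv π ≫ E.q
  have hπ : π ≫ pY.left ≫ hq.left = pullback.snd (D.obj.hom ≫ hq.left) (𝟙 T.left) :=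
    pullback.condition.trans (Category.comp_id _)
  have he : e ≫ E.str = pY.left ≫ hq.left := by
    show (inv π ≫ E.q) ≫ E.str = _
    rw [Category.assoc, E.q_str, ← hπ]
    exact IsIso.inv_hom_id_assoc π _
  have compat : ∀ {A : Scheme.{u}} (a b : A ⟶ U'.left), (a ≫ pY.left) ≫ hq.left = (b ≫ pY.left) ≫ hq.left →
      Rel pU a b → a ≫ e = b ≫ e := by
    intro A a b hab hr
    have hR : Groth.Agent.SGA1Desc.Rel D a b :=
      ⟨hab, congrArg Subtype.val ((hφ (a ≫ pY.left) (b ≫ pY.left) hab ⟨a, rfl⟩ ⟨b, rfl⟩).2 hr)⟩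
    have := E.compat (a ≫ inv π) (b ≫ inv π)
      (by simp only [Category.assoc, π, IsIso.inv_hom_id]; simpa using hR)
      (by rw [← hπ]; simpa using hab)
    simpa [e] using this
  have sE₀ : IsPullback e pY.left E.str hq.left := by
    have := E.isPullback
    rw [Category.comp_id] at this
    exact IsPullback.of_iso this (asIso π) (Iso.refl _) (Iso.refl _) (Iso.refl _)
      (by simp [e]) (by simp [π, D]) (by simp) (by simp)
  -- the descended scheme over `T`
  let EE : Over S := Over.mk (E.str ≫ T.hom)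
  let heE : EE ⟶ T := Over.homMk E.str rfl
  let ee : U' ⟶ EE := Over.homMk e (by
    change e ≫ E.str ≫ T.hom = U'.hom
    rw [reassoc_of% he, Over.w hq, Over.w pY])
  obtain ⟨hu, hhu⟩ := (yon S).map_surjective (p ≫ f)
  have hpU : pU ≫ hu = ee ≫ heE := (yon S).map_injective (by
    rw [Functor.map_comp, hhu, reassoc_of% sq.w, ← hhq, ← Functor.map_comp]
    congr 1
    exact Over.OverMorphism.ext he.symm)
  obtain ⟨W, aU, aE, sW⟩ : ∃ (W : Over S) (aU : W ⟶ U) (aE : W ⟶ EE), IsPullback aU aE hu heE :=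
    ⟨_, _, _, IsPullback.of_hasPullback _ _⟩
  have sWl := sW.map (Over.forget S)
  have : Etale aU.left := MorphismProperty.of_isPullback (P := @Etale) sWl.flip E.etale
  have : IsSeparated aU.left := MorphismProperty.of_isPullback (P := @IsSeparated) sWl.flip ‹IsSeparated E.str›
  let η : U'.left ⟶ W.left := sWl.lift pU.left e (congrArg CommaMorphism.left hpU)
  have η1 : η ≫ aU.left = pU.left := sWl.lift_fst _ _ _
  have η2 : η ≫ aE.left = e := sWl.lift_snd _ _ _
  let W' := pullback pU.left aU.left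
  obtain ⟨ε, ε1, ε2⟩ := exists_section (IsPullback.of_hasPullback pU.left aU.left) η η1 fun A a b hab => by
    have h1 : (a ≫ pullback.fst pU.left aU.left) ≫ pU.left = b ≫ pU.left := by
      rw [Category.assoc, pullback.condition, reassoc_of% hab, η1]
    have h2 : (a ≫ pullback.fst pU.left aU.left) ≫ e = b ≫ e := compat _ _ (by
      simp only [Category.assoc, ← he]
      rw [show e ≫ E.str = pU.left ≫ hu.left from (congrArg CommaMorphism.left hpU).symm]
      simpa [Category.assoc] using h1 =≫ hu.left)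
      ⟨A, 𝟙 A, inferInstance, inferInstance, by simpa [Category.assoc] using h1⟩
    apply pullback.hom_ext
    · rw [Category.assoc, IsPullback.lift_fst, Category.comp_id]
    · rw [Category.assoc, IsPullback.lift_snd]
      refine sWl.hom_ext ?_ ?_
      · show (a ≫ pullback.snd _ _) ≫ aU.left = ((a ≫ pullback.fst _ _) ≫ η) ≫ aU.left
        rw [Category.assoc _ η, η1, Category.assoc, Category.assoc, pullback.condition]
      · show (a ≫ pullback.snd _ _) ≫ aE.left = ((a ≫ pullback.fst _ _) ≫ η) ≫ aE.left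
        rw [Category.assoc _ η, η2, hab, h2, Category.assoc, η2]
  let ψ : U ⟶ EE := Over.homMk (ε ≫ aE.left) (by
    rw [Category.assoc, Over.w aE, ← Over.w aU, ← Category.assoc, ε1, Category.id_comp])
  have hψ' : ψ ≫ heE = hu := Over.OverMorphism.ext (by
    change (ε ≫ aE.left) ≫ heE.left = hu.left
    rw [Category.assoc]
    exact (congrArg (ε ≫ ·) sWl.w.symm).trans ((Category.assoc _ _ _).symm.trans ((congrArg (· ≫ hu.left) ε1).trans (Category.id_comp _))))
  have hψ : p ≫ f = (yon S).map ψ ≫ (yon S).map heE := by rw [← Functor.map_comp, hψ', hhu]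
  have hee : pU ≫ ψ = ee := Over.OverMorphism.ext (by
    change pU.left ≫ ε ≫ aE.left = e
    rw [← Category.assoc, ε2, η2])
  have sE : IsPullback (pU ≫ ψ) pY heE hq := by
    rw [hee]
    exact IsPullback.of_map (Over.forget S) (Over.OverMorphism.ext he) sE₀
  have : Etale heE.left := E.etale
  have : Surjective heE.left := by
    have : Surjective pY.left := hps.2 _ _ _ sq
    have h : Surjective (e ≫ E.str) := by rw [he]; infer_instance
    exact @Surjective.of_comp _ _ _ e E.str h
  have : IsAffine U.left := hU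
  have : IsSeparated heE.left := ‹IsSeparated E.str›
  have : IsAffineHom ψ.left :=
    MorphismProperty.of_postcomp @IsAffineHom (W' := @IsSeparated) ψ.left heE.left ‹_›
      (show IsAffineHom (ψ.left ≫ heE.left) from inferInstance)
  have hf : IsAffineMor f := Groth.Agent.S9943.result (Y := ⟨_, IsAlgSpace.yon_obj T⟩) (ObjectProperty.homMk f) EE
    ((yon S).map heE) ((repWith_yon_map_iff _ heE).2 ‹_›) ((repWith_yon_map_iff _ heE).2 ‹_›) p ((yon S).map ψ)
    (isPullback_of_cover hpe hgs hhq sq ψ hψ sE)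
    ((Groth.Agent.AlgSp.isAffineMor_iff _).2 ((repWith_yon_map_iff _ ψ).2 ‹_›))
  obtain ⟨Wf, i, fst, sf, hWf⟩ := hf (inferInstanceAs (IsAffine T.left)) (𝟙 _)
  have : IsIso fst := sf.isIso_fst_of_isIso
  have hiu : UniversallyClosed i.left := ((Groth.Agent.AlgSp.repWith_universallyClosed_iff f
    ((Groth.Agent.AlgSp.isAffineMor_iff f).1 hf).1).2 hucl).2 _ _ _ sf
  have : IsAffine Wf.left := hWf
  refine ⟨Wf, i, asIso fst, sf.w.trans (Category.comp_id _), hWf, ?_⟩
  exact IsIntegralHom.iff_universallyClosed_and_isAffineHom.2 ⟨hiu, inferInstance⟩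

end Groth.Agent.AlgSpD.UnivHomeo
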